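import Cfsg.Agent.Lib.InvChar.CosetCert

/-! Coset enumeration certificate J2NC for a presented sporadic group. -/

set_option autoImplicit false
set_option maxRecDepth 100000

namespace CfsgLib.InvChar.Coset.J2NC

/-- facts -/
noncomputable def facts : Tr := (.leaf 0x600000700007100005000061000040000500000300004000002000031000010000210000000001000000)
/-- justifications -/
noncomputable def just : Tr := (.leaf 0x18000100000800000000040000c000150002001006)
/-- relators -/
def rels : List (List ℕ) := [[0, 0], [1, 1], [1, 0, 1, 0, 1, 0, 1, 0], [0, 1, 0, 1, 0, 1, 0, 1]]
/-- subgroup words -/
def subs : List (List ℕ) := []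
/-- the letters, as letters of the whole group -/
def emb : List ℕ := [0, 4]
/-- certificate -/
noncomputable def cert : Cert := ⟨2, 8, 7, facts, just, rels, subs⟩
/-- table -/
noncomputable def permTable : Tr := (.leaf 0x5000060000400007000070000300006000020000100005000000000400003000000000200001)
/-- node of a coset -/
noncomputable def live : Tr := (.leaf 0x700006000050000400003000020000100000)
/-- fact of an entry -/
noncomputable def fin : Tr := (.leaf 0x6000070000500007000060000400005000030000200004000010000300002000000000100000)
/-- table -/
noncomputable def table : Table := ⟨8, 2, permTable⟩

end CfsgLib.InvChar.Coset.J2NC
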